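import Cfsg.Agent.H417.GU.Shift
import Cfsg.Agent.H624.Sl.Defs
import Mathlib.FieldTheory.Finite.Trace

/-!
# S4537, [N-odd], [N-even]: linear characters and norms (helper417)
-/

set_option autoImplicit false
set_option linter.unusedSectionVars false

open Cfsg Cfsg.Agent.H531.GU Cfsg.Agent.H577.GLB.Std Cfsg.Agent.H421.GU
open Cfsg.Agent.H615.GU hiding lft
open Cfsg.Agent.H624.Sl (nrm)

namespace Cfsg.Agent.H417.GU

universe u v

theorem geom_even (Q : ℤ) (g : ℕ) :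
    (∑ i ∈ Finset.range g, (Q ^ 2) ^ i) * (1 + Q) = ∑ i ∈ Finset.range (2 * g), Q ^ i := by
  induction g with
  | zero => simp
  | succ g ih =>
    have e : 2 * (g + 1) = 2 * g + 1 + 1 := by ring
    rw [e, Finset.sum_range_succ, Finset.sum_range_succ _ (2 * g + 1), Finset.sum_range_succ _ (2 * g), ← ih]
    ring

theorem dvd_alt (Q : ℤ) (m : ℕ) : (Q - 1) ∣ (∑ i ∈ Finset.range (2 * m + 1), (-Q) ^ i) - 1 := by
  induction m with
  | zero => simp
  | succ m ih =>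
    have e : 2 * (m + 1) + 1 = 2 * m + 1 + 1 + 1 := by ring
    rw [e, Finset.sum_range_succ, Finset.sum_range_succ]
    obtain ⟨t, ht⟩ := ih
    refine ⟨t + Q ^ (2 * m + 1), ?_⟩
    have e1 : (-Q) ^ (2 * m + 1) = -(Q ^ (2 * m + 1)) := Odd.neg_pow ⟨m, rfl⟩ Q
    have e2 : (-Q) ^ (2 * m + 1 + 1) = Q ^ (2 * m + 1) * Q := by rw [pow_succ, e1]; ring
    rw [e1, e2]
    linear_combination ht

theorem geom_odd {Q : ℤ} (h2 : 2 ≤ |Q|) {f : ℕ} (hf : Odd f) :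
    ∑ i ∈ Finset.range f, (Q ^ 2) ^ i = (∑ i ∈ Finset.range f, Q ^ i) * ∑ i ∈ Finset.range f, (-Q) ^ i := by
  have h1 : Q ^ 2 - 1 ≠ 0 := by
    intro h
    have h3 : |Q| ^ 2 = 1 := by rw [sq_abs]; linarith
    nlinarith
  refine mul_right_cancel₀ h1 ?_
  have a1 := geom_sum_mul (Q ^ 2) f
  have a2 := geom_sum_mul Q f
  have a3 := geom_sum_mul (-Q) f
  rw [hf.neg_pow] at a3
  rw [a1, ← pow_mul, mul_comm 2 f, pow_mul]
  linear_combination (Q ^ f + 1) * (-1) * a2 + (∑ i ∈ Finset.range f, Q ^ i) * (Q - 1) * a3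

variable {F : Type u} [Field F] [Fintype F] {E : Type u} [Field E] [Finite E] [Algebra F E]
  {K : Type v} [Field K] [Finite K] [Algebra E K] [Algebra F K] [IsScalarTower F E K]

theorem coe_nrm {q : ℕ} (hF : Fintype.card F = q ^ 2) (y : Eˣ) : algebraMap F E ((nrm F E y : Fˣ) : F) =
    ((y ^ (∑ i ∈ Finset.range (Module.finrank F E), ((-(q : ℤ)) ^ 2) ^ i) : Eˣ) : E) := by
  have h1 : ((nrm F E y : Fˣ) : F) = Algebra.norm F (y : E) := rfl
  rw [h1, FiniteField.algebraMap_norm_eq_pow_sum, Nat.card_eq_fintype_card, hF]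
  have h2 : (∑ i ∈ Finset.range (Module.finrank F E), ((-(q : ℤ)) ^ 2) ^ i) =
      ((∑ i ∈ Finset.range (Module.finrank F E), (q ^ 2) ^ i : ℕ) : ℤ) := by
    push_cast
    refine Finset.sum_congr rfl fun i _ => ?_
    rw [neg_pow, neg_one_sq, one_mul]
  rw [h2, zpow_natCast, Units.val_pow_eq_pow_val]

variable {M N : ℕ} [NeZero M] (θ : K →*₀ ℂ)

/-- **[N-odd]** -/
theorem nrm_odd {q f : ℕ} (hF : Fintype.card F = q ^ 2) (hfo : Odd f) (hE : Module.finrank F E = f)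
    (ctx : CtxQ θ (-(q : ℤ)) M N) {a : ZMod M} (ha : TorZ (-(q : ℤ)) M 1 a) {y : Eˣ} (hy : y ^ (q ^ f + 1) = 1) :
    θ (algebraMap F K ((nrm F E y : Fˣ) : F)) ^ expoZ (-(q : ℤ)) M 1 a =
      θ (algebraMap E K (y : E)) ^ expoZ ((-(q : ℤ)) ^ f) M 1 a := by
  set Q : ℤ := -(q : ℤ) with hQ
  let y' : Kˣ := Units.map (algebraMap E K).toMonoidHom y
  have e0 : algebraMap E K (y : E) = ((y' : Kˣ) : K) := rfl
  have e1 : algebraMap F K ((nrm F E y : Fˣ) : F) =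
      ((y' ^ (∑ i ∈ Finset.range f, (Q ^ 2) ^ i) : Kˣ) : K) := by
    rw [IsScalarTower.algebraMap_apply F E K, coe_nrm hF, hE, ← map_zpow]
    rfl
  have e2 : expoZ (Q ^ f) M 1 a = (∑ i ∈ Finset.range f, Q ^ i) * expoZ Q M 1 a := by
    have h1 := expoZ_shift (Q := Q) (M := M) (dvd_refl f) a
    rw [Nat.div_self hfo.pos] at h1
    rw [h1, expoZ_lin ha f]
  rw [e1, e0, th_zpow, th_zpow]
  congr 2
  obtain ⟨m, hm⟩ := hfo
  obtain ⟨t, ht⟩ := dvd_alt Q m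
  rw [← hm] at ht
  have hyQ : y' ^ (Q ^ f - 1) = 1 := by
    have h1 : y' ^ (q ^ f + 1) = 1 := by rw [← map_pow, hy, map_one]
    have h2 : Q ^ f - 1 = -((q ^ f + 1 : ℕ) : ℤ) := by
      rw [hQ, Odd.neg_pow ⟨m, hm⟩]
      push_cast
      ring
    rw [h2, zpow_neg, zpow_natCast, h1, inv_one]
  have h3 : (∑ i ∈ Finset.range f, (Q ^ 2) ^ i) * expoZ Q M 1 a =
      expoZ (Q ^ f) M 1 a + (Q ^ f - 1) * (t * expoZ Q M 1 a) := by
    rw [geom_odd ctx.two ⟨m, hm⟩, e2]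
    have h4 := geom_sum_mul Q f
    linear_combination (∑ i ∈ Finset.range f, Q ^ i) * expoZ Q M 1 a * ht + t * expoZ Q M 1 a * h4
  rw [← zpow_mul, h3, zpow_add, zpow_mul y' (Q ^ f - 1), hyQ, one_zpow, mul_one]

/-- **[N-even]** -/
theorem nrm_even {q g : ℕ} (hF : Fintype.card F = q ^ 2) (hg : 0 < g) (hE : Module.finrank F E = g)
    {a : ZMod M} (ha : TorZ (-(q : ℤ)) M 1 a) (y : Eˣ) :
    θ (algebraMap F K ((nrm F E y * (nrm F E y ^ q)⁻¹ : Fˣ) : F)) ^ expoZ (-(q : ℤ)) M 1 a =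
      θ (algebraMap E K (y : E)) ^ expoZ ((-(q : ℤ)) ^ (2 * g)) M 1 a := by
  set Q : ℤ := -(q : ℤ) with hQ
  let y' : Kˣ := Units.map (algebraMap E K).toMonoidHom y
  have e0 : algebraMap E K (y : E) = ((y' : Kˣ) : K) := rfl
  have e3 : Units.map (algebraMap F E).toMonoidHom (nrm F E y) = y ^ (∑ i ∈ Finset.range g, (Q ^ 2) ^ i) := by
    apply Units.ext
    have h1 := coe_nrm hF y
    rw [hE] at h1
    exact h1
  have e1 : algebraMap F K ((nrm F E y * (nrm F E y ^ q)⁻¹ : Fˣ) : F) =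
      ((y' ^ (∑ i ∈ Finset.range (2 * g), Q ^ i) : Kˣ) : K) := by
    have h1 : Units.map (algebraMap F E).toMonoidHom (nrm F E y * (nrm F E y ^ q)⁻¹) =
        y ^ (∑ i ∈ Finset.range (2 * g), Q ^ i) := by
      rw [map_mul, map_inv, map_pow, e3, ← zpow_natCast, ← zpow_mul, ← zpow_neg, ← zpow_add, ← geom_even]
      congr 1
      rw [hQ]
      ring
    have h2 : algebraMap F E ((nrm F E y * (nrm F E y ^ q)⁻¹ : Fˣ) : F) =
        ((y ^ (∑ i ∈ Finset.range (2 * g), Q ^ i) : Eˣ) : E) := congrArg Units.val h1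
    rw [IsScalarTower.algebraMap_apply F E K, h2, ← map_zpow]
    rfl
  have e2 : expoZ (Q ^ (2 * g)) M 1 a = (∑ i ∈ Finset.range (2 * g), Q ^ i) * expoZ Q M 1 a := by
    have h1 := expoZ_shift (Q := Q) (M := M) (dvd_refl (2 * g)) a
    rw [Nat.div_self (by omega)] at h1
    rw [h1, expoZ_lin ha (2 * g)]
  rw [e1, e0, th_zpow, th_zpow, e2, ← zpow_mul]

end Cfsg.Agent.H417.GU
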