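import Cfsg.Agent.H417.GU.Dual
import Cfsg.Agent.H474.GU.ColOf
import Cfsg.Agent.H615.GU.ColOf

/-!
# S4537, A3: the commutation identity (helper417)

`I2_of` : the identity (I2) from `card_sub` and `exists_colOf`.
-/

set_option autoImplicit false

open Polynomial Module
open Cfsg.Agent.H615.GU

namespace Cfsg.Agent.H417.GU

/-! ### `colOf` -/

section

universe u

variable {F : Type u} [Field F] {V : Type u} [AddCommGroup V] [Module F V] [Module.Finite F V]

theorem colOf_eq (T : V →ₗ[F] V) : colOf T = H474.GU.colOf T := by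
  ext i
  rw [H474.GU.colOf_apply, ← colOf_add T i, Nat.add_sub_cancel]

theorem size_colOf {T : V →ₗ[F] V} (hT : IsNilpotent T) : (colOf T).size = finrank F V := by
  rw [colOf_eq, H474.GU.size_colOf hT]

theorem colOf_congr {W : Type u} [AddCommGroup W] [Module F W] [Module.Finite F W]
    {T : V →ₗ[F] V} {S : W →ₗ[F] W} (e : V ≃ₗ[F] W) (h : ∀ v, e (T v) = S (e v)) : colOf T = colOf S := by
  rw [colOf_eq, colOf_eq, H474.GU.colOf_congr e h]

omit [Module.Finite F V] in
theorem restrict_nilp {T : V →ₗ[F] V} (hT : IsNilpotent T) {W : Submodule F V} (h : W ≤ W.comap T) :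
    IsNilpotent (T.restrict h) := by
  obtain ⟨N, hN⟩ := hT
  refine ⟨N, ?_⟩
  have h1 : ∀ (m : ℕ) (x : W), (((T.restrict h) ^ m) x : V) = (T ^ m) x := by
    intro m
    induction m with
    | zero => intro x; rfl
    | succ m ih =>
      intro x
      rw [pow_succ, Module.End.mul_apply, ih, pow_succ, Module.End.mul_apply]
      rfl
  ext x
  rw [h1, hN]
  rfl

end

/-! ### `Np` -/

theorem Np_zero {l k : Col} (h : ¬ k ≤ l) : Np l k = 0 := by
  rw [Col.le_def] at h
  push Not at h
  -- the last violating index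
  let s : Finset ℕ := k.1.support.filter fun i => l i < k i
  have hs : s.Nonempty := by
    obtain ⟨i, hi⟩ := h
    exact ⟨i, Finset.mem_filter.2 ⟨Finsupp.mem_support_iff.2 (by omega), hi⟩⟩
  have h1 := Finset.max'_mem s hs
  have h2 : ∀ j ∈ s, j ≤ s.max' hs := fun j hj => Finset.le_max' s j hj
  generalize s.max' hs = i at h1 h2
  obtain ⟨h3, h4⟩ := Finset.mem_filter.1 h1
  have h5 : k (i + 1) ≤ l (i + 1) := by
    by_contra h6
    have h7 := h2 (i + 1) (Finset.mem_filter.2 ⟨Finsupp.mem_support_iff.2 (by omega), by omega⟩)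
    omega
  have h6 := l.anti (Nat.le_succ i)
  rw [Np]
  refine Finset.prod_eq_zero h3 ?_
  rw [gb_eq_zero (by simp only [Nat.succ_eq_add_one] at h6; omega), mul_zero]

/-! ### Counting -/

/-- `card_sub` -/
def CardSub : Prop :=
  ∀ (F : Type) [Field F] [Finite F] (V : Type) [AddCommGroup V] [Module F V] [Module.Finite F V] (T : V →ₗ[F] V),
    IsNilpotent T → ∀ n : Col, (Nat.card {W : Submodule F V // ∃ h : W ≤ W.comap T, colOf (T.restrict h) = n} : ℤ) =
      (Np (colOf T) n).eval (Nat.card F : ℤ)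

/-- `exists_colOf` -/
def ExCol : Prop :=
  ∀ (F : Type) [Field F] [Finite F] (l : Col), ∃ T : (Fin l.size → F) →ₗ[F] (Fin l.size → F), IsNilpotent T ∧ colOf T = l

section

variable {F : Type} [Field F] [Finite F] {V : Type} [AddCommGroup V] [Module F V] [Module.Finite F V]
  (hcs : CardSub) (T : V →ₗ[F] V) (hT : IsNilpotent T)
include hcs hT

theorem card_sub_le {W : Submodule F V} (hW : W ≤ W.comap T) (n : Col) :
    (Nat.card {U : Submodule F V // U ≤ W ∧ ∃ h : U ≤ U.comap T, colOf (T.restrict h) = n} : ℤ) =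
      (Np (colOf (T.restrict hW)) n).eval (Nat.card F : ℤ) := by
  rw [← hcs F W (T.restrict hW) (restrict_nilp hT hW) n]
  congr 1
  have hinv : ∀ U : Submodule F W, U ≤ U.comap (T.restrict hW) ↔ U.map W.subtype ≤ (U.map W.subtype).comap T := by
    intro U
    constructor
    · rintro h _ ⟨x, hx, rfl⟩
      exact ⟨T.restrict hW x, h hx, rfl⟩
    · intro h x hx
      obtain ⟨y, hy, hyx⟩ := h ⟨x, hx, rfl⟩
      have h1 : y = T.restrict hW x := Subtype.ext hyx
      rw [h1] at hy
      exact hy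
  have hcol : ∀ (U : Submodule F W) (h : U ≤ U.comap (T.restrict hW)) (h' : U.map W.subtype ≤ (U.map W.subtype).comap T),
      colOf ((T.restrict hW).restrict h) = colOf (T.restrict h') := by
    intro U h h'
    refine colOf_congr (Submodule.equivSubtypeMap W U) ?_
    intro v
    apply Subtype.ext
    rfl
  refine (Nat.card_eq_of_bijective (fun U : {U : Submodule F W // ∃ h : U ≤ U.comap (T.restrict hW),
    colOf ((T.restrict hW).restrict h) = n} => (⟨U.1.map W.subtype, Submodule.map_subtype_le _ _, (hinv _).1 U.2.1, by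
      obtain ⟨h, h1⟩ := U.2
      exact (hcol U.1 h _).symm.trans h1⟩ : {U : Submodule F V // U ≤ W ∧ ∃ h : U ≤ U.comap T, colOf (T.restrict h) = n})) ⟨?_, ?_⟩).symm
  · intro U U' h
    exact Subtype.ext (Submodule.map_injective_of_injective W.injective_subtype (congrArg Subtype.val h))
  · intro U
    have e : (U.1.comap W.subtype).map W.subtype = U.1 := by
      rw [Submodule.map_comap_subtype, inf_eq_right.2 U.2.1]
    obtain ⟨h, h1⟩ := U.2.2
    have h2 : U.1.comap W.subtype ≤ (U.1.comap W.subtype).comap (T.restrict hW) := by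
      rw [hinv, e]
      exact h
    refine ⟨⟨U.1.comap W.subtype, h2, ?_⟩, Subtype.ext e⟩
    refine (hcol _ h2 ((hinv _).1 h2)).trans (Eq.trans ?_ h1)
    refine colOf_congr (LinearEquiv.ofEq _ _ e) ?_
    intro v
    rfl

/-- the number of pairs -/
noncomputable def cnt (T : V →ₗ[F] V) (n : Col) (s : ℕ) : ℕ :=
  Nat.card {p : Submodule F V × Submodule F V // p.2 ≤ p.1 ∧ p.1 ≤ p.1.comap T ∧
    (∃ h : p.2 ≤ p.2.comap T, colOf (T.restrict h) = n) ∧ finrank F p.1 = s}

theorem cnt_eq (n : Col) (s : ℕ) : (cnt T n s : ℤ) =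
    ∑ k ∈ (Col.below (colOf T)).filter (fun k => k.size = s),
      (Np (colOf T) k).eval (Nat.card F : ℤ) * (Np k n).eval (Nat.card F : ℤ) := by
  classical
  let A := {W : Submodule F V // W ≤ W.comap T ∧ finrank F W = s}
  have : Fintype A := Fintype.ofFinite A
  let g : A → Col := fun W => colOf (T.restrict W.2.1)
  have hg : ∀ W : A, (g W).size = s := by
    intro W
    rw [size_colOf (restrict_nilp hT W.2.1)]
    exact W.2.2
  have h1 : (cnt T n s : ℤ) = ∑ W : A, (Np (g W) n).eval (Nat.card F : ℤ) := by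
    have e : {p : Submodule F V × Submodule F V // p.2 ≤ p.1 ∧ p.1 ≤ p.1.comap T ∧
        (∃ h : p.2 ≤ p.2.comap T, colOf (T.restrict h) = n) ∧ finrank F p.1 = s} ≃
        Σ W : A, {U : Submodule F V // U ≤ W.1 ∧ ∃ h : U ≤ U.comap T, colOf (T.restrict h) = n} :=
      ⟨fun p => ⟨⟨p.1.1, p.2.2.1, p.2.2.2.2⟩, ⟨p.1.2, p.2.1, p.2.2.2.1⟩⟩,
        fun p => ⟨(p.1.1, p.2.1), p.2.2.1, p.1.2.1, p.2.2.2, p.1.2.2⟩, fun p => rfl, fun p => rfl⟩
    rw [cnt, Nat.card_congr e, Nat.card_sigma]
    push_cast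
    exact Finset.sum_congr rfl fun W _ => card_sub_le hcs T hT W.2.1 n
  have h2 : ∀ k : Col, k.size = s → ((Finset.univ.filter fun W : A => g W = k).card : ℤ) =
      (Np (colOf T) k).eval (Nat.card F : ℤ) := by
    intro k hk
    rw [← hcs F V T hT k, ← Fintype.card_subtype, ← Nat.card_eq_fintype_card]
    congr 1
    refine Nat.card_congr ⟨fun W => ⟨W.1.1, W.1.2.1, W.2⟩, fun W => ⟨⟨W.1, ?_, ?_⟩, ?_⟩, fun _ => rfl, fun _ => rfl⟩
    · obtain ⟨h, h3⟩ := W.2
      exact h
    · obtain ⟨h, h3⟩ := W.2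
      exact (size_colOf (restrict_nilp hT h)).symm.trans ((congrArg Col.size h3).trans hk)
    · obtain ⟨h, h3⟩ := W.2
      exact h3
  have h3 : ∀ W : A, g W ∈ (Col.below (colOf T)).filter (fun k => k.size = s) := by
    intro W
    rw [Finset.mem_filter, Col.mem_below]
    refine ⟨?_, hg W⟩
    by_contra h4
    have h5 := h2 (g W) (hg W)
    rw [Np_zero h4, eval_zero, Nat.cast_eq_zero, Finset.card_eq_zero] at h5
    have h6 : W ∈ Finset.univ.filter fun W' : A => g W' = g W := Finset.mem_filter.2 ⟨Finset.mem_univ _, rfl⟩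
    rw [h5] at h6
    exact absurd h6 (Finset.notMem_empty _)
  rw [h1, ← Finset.sum_fiberwise_of_maps_to (fun W _ => h3 W)]
  refine Finset.sum_congr rfl fun k hk => ?_
  rw [← h2 k (Finset.mem_filter.1 hk).2, ← nsmul_eq_mul, ← Finset.sum_const]
  exact Finset.sum_congr rfl fun W hW => by rw [(Finset.mem_filter.1 hW).2]

omit hcs in
theorem cnt_comm (n : Col) {a b : ℕ} (hab : n.size + a + b = finrank F V) :
    cnt T n (n.size + a) = cnt T n (n.size + b) := by
  classical
  let A := {U : Submodule F V // ∃ h : U ≤ U.comap T, colOf (T.restrict h) = n}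
  have : Fintype A := Fintype.ofFinite A
  have h1 : ∀ s, cnt T n s = ∑ U : A, Nat.card {W : Submodule F V // U.1 ≤ W ∧ W ≤ W.comap T ∧ finrank F W = s} := by
    intro s
    have e : {p : Submodule F V × Submodule F V // p.2 ≤ p.1 ∧ p.1 ≤ p.1.comap T ∧
        (∃ h : p.2 ≤ p.2.comap T, colOf (T.restrict h) = n) ∧ finrank F p.1 = s} ≃
        Σ U : A, {W : Submodule F V // U.1 ≤ W ∧ W ≤ W.comap T ∧ finrank F W = s} :=
      ⟨fun p => ⟨⟨p.1.2, p.2.2.2.1⟩, ⟨p.1.1, p.2.1, p.2.2.1, p.2.2.2.2⟩⟩,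
        fun p => ⟨(p.2.1, p.1.1), p.2.2.1, p.2.2.2.1, p.1.2, p.2.2.2.2⟩, fun p => rfl, fun p => rfl⟩
    rw [cnt, Nat.card_congr e, Nat.card_sigma]
  rw [h1, h1]
  refine Finset.sum_congr rfl fun U _ => ?_
  obtain ⟨h, h2⟩ := U.2
  have h3 : n.size = finrank F U.1 := (congrArg Col.size h2).symm.trans (size_colOf (restrict_nilp hT h))
  rw [h3]
  exact card_inv_above T h (by rw [← h3]; exact hab)

end

/-- **(I2)** from `card_sub` and `exists_colOf` -/
theorem I2_of (hcs : CardSub) (hex : ExCol) (l n : Col) (a b : ℕ) (hab : n.size + a + b = l.size) :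
    ∑ k ∈ (Col.below l).filter (fun k => k.size = n.size + a), Np l k * Np k n =
      ∑ k ∈ (Col.below l).filter (fun k => k.size = n.size + b), Np l k * Np k n := by
  apply Polynomial.eq_of_infinite_eval_eq
  refine Set.Infinite.mono ?_ ((Nat.infinite_setOfPred_prime.image (f := fun p : ℕ => (p : ℤ)) (Nat.cast_injective.injOn)))
  rintro _ ⟨p, hp, rfl⟩
  have : Fact p.Prime := ⟨hp⟩
  obtain ⟨T, hT, hl⟩ := hex (ZMod p) l
  have h1 := cnt_eq hcs T hT n (n.size + a)
  have h2 := cnt_eq hcs T hT n (n.size + b)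
  rw [hl, Nat.card_zmod] at h1 h2
  have h3 := cnt_comm T hT n (a := a) (b := b) (by rw [hab, finrank_fin_fun])
  rw [Set.mem_ofPred_eq]
  simp only [eval_finsetSum, eval_mul]
  rw [← h1, ← h2, h3]

end Cfsg.Agent.H417.GU
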