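import Cfsg.Agent.H531.GU.Rea
import Cfsg.Agent.H577.GLB.Real

/-!
# S4537, (R7): the values at joins of coprime types are given by the coproduct (helper417)

* `Jn lam lam₁ lam₂` : the type `lam` is the join of the types `lam₁`, `lam₂` with disjoint supports;
* `evL θ Q M lam` : the value of `evR` at `lam` as a functional;
* `evR_join` : `evR x lam = mul' (map (evL lam₁) (evL lam₂) (coP M x))`.
-/

set_option autoImplicit false
set_option linter.unusedSectionVars false

open scoped ComplexConjugate TensorProduct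
open Cfsg Cfsg.Agent.H531.GU Cfsg.Agent.H577.GLB.Std
open Cfsg.Agent.H615.GU hiding lft
open Cfsg.Agent.H577.GLB.Real (coP)

namespace Cfsg.Agent.H417.GU

section loc

theorem uu_zero (t : ℂ) {j : ℕ} (hj : j ≠ 0) (f : Col → ℂ) : uu t j f 0 = 0 := by
  classical
  rw [uu_apply]
  refine Finset.sum_eq_zero fun c hc => ?_
  exfalso
  rw [Finset.mem_filter, Col.size_zero] at hc
  exact hj (by omega)

/-- power sums vanish at the empty partition -/
theorem pp_zero (t : ℂ) (m : ℕ) (f : Col → ℂ) : pp t m f 0 = 0 := by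
  induction m using Nat.strong_induction_on generalizing f with
  | _ m ih =>
    cases m with
    | zero =>
      rw [pp, nwt_zero]
      rfl
    | succ m =>
      rw [pp, nwt_succ, LinearMap.sub_apply, Pi.sub_apply, LinearMap.sum_apply, Finset.sum_apply]
      rw [Finset.sum_eq_zero fun r hr => ?_, sub_zero]
      · rw [LinearMap.smul_apply, Pi.smul_apply, uu_zero t (Nat.succ_ne_zero m), smul_zero]
      · rw [Module.End.mul_apply]
        exact ih r (Finset.mem_range.1 hr) _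

end loc

section glob

variable {I : Type*}

theorem lft_pp_zero (i : I) (t : ℂ) (m : ℕ) (F : Ty I → ℂ) {lam : Ty I} (h : lam i = 0) :
    lft i (pp t m) F lam = 0 := by
  rw [lft_apply, h]
  exact pp_zero t m _

/-- `lam` is the join of `lam₁`, `lam₂` with disjoint supports -/
def Jn (lam lam₁ lam₂ : Ty I) : Prop := ∀ i, (lam i = lam₁ i ∧ lam₂ i = 0) ∨ (lam i = lam₂ i ∧ lam₁ i = 0)

theorem Jn.symm {lam lam₁ lam₂ : Ty I} (h : Jn lam lam₁ lam₂) : Jn lam lam₂ lam₁ := fun i => (h i).symm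

open Classical in
theorem Jn.update {lam lam₁ lam₂ : Ty I} (h : Jn lam lam₁ lam₂) {i : I} (hi : lam₂ i = 0) (c : Col) :
    Jn (lam.update i c) (lam₁.update i c) lam₂ := by
  intro j
  by_cases hj : j = i
  · subst hj
    left
    simp [hi]
  · rw [Finsupp.coe_update, Finsupp.coe_update, Function.update_of_ne hj, Function.update_of_ne hj]
    exact h j

theorem Jn.eq_zero {lam lam₁ lam₂ : Ty I} (h : Jn lam lam₁ lam₂) : lam = 0 ↔ lam₁ = 0 ∧ lam₂ = 0 := by
  constructor
  · rintro rfl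
    constructor
    · ext1 i
      rcases h i with ⟨h1, _⟩ | ⟨_, h1⟩
      · exact h1.symm
      · exact h1
    · ext1 i
      rcases h i with ⟨_, h1⟩ | ⟨h1, _⟩
      · exact h1
      · exact h1.symm
  · rintro ⟨rfl, rfl⟩
    ext1 i
    rcases h i with ⟨h1, _⟩ | ⟨h1, _⟩ <;> exact h1

theorem Jn.vac {lam lam₁ lam₂ : Ty I} (h : Jn lam lam₁ lam₂) :
    (Cfsg.Agent.H615.GU.vac lam : ℂ) = Cfsg.Agent.H615.GU.vac lam₁ * Cfsg.Agent.H615.GU.vac lam₂ := by
  classical
  unfold Cfsg.Agent.H615.GU.vac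
  by_cases h1 : lam₁ = 0
  · by_cases h2 : lam₂ = 0
    · rw [if_pos h1, if_pos h2, if_pos (h.eq_zero.2 ⟨h1, h2⟩), mul_one]
    · rw [if_neg h2, if_neg (fun h0 => h2 (h.eq_zero.1 h0).2), mul_zero]
  · rw [if_neg h1, if_neg (fun h0 => h1 (h.eq_zero.1 h0).1), zero_mul]

end glob

section eval

variable {K : Type*} [Field K] [Finite K] (θ : K →*₀ ℂ) (Q : ℤ) (M : ℕ)

open Classical in
theorem Pop_apply (k : ℕ) (c : ZMod M) (F : Ty (Orb K Q) → ℂ) (lam : Ty (Orb K Q)) :
    Pop θ Q M k c F lam = ∑ o : Orb K Q, if 0 < k ∧ dOrb K Q o ∣ k then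
      thO θ Q M k c o * lft o (pp ((Q : ℂ) ^ dOrb K Q o) (k / dOrb K Q o)) F lam else 0 := by
  rw [Pop_eq, LinearMap.sum_apply, Finset.sum_apply]
  refine Finset.sum_congr rfl fun o _ => ?_
  split_ifs
  · rfl
  · rfl

/-- the operators `Pop` are derivations for joins -/
theorem Pop_join (k : ℕ) (c : ZMod M) {F : Ty (Orb K Q) → ℂ} {Φ : Ty (Orb K Q) → Ty (Orb K Q) → ℂ}
    (hF : ∀ lam lam₁ lam₂, Jn lam lam₁ lam₂ → F lam = Φ lam₁ lam₂) {lam lam₁ lam₂ : Ty (Orb K Q)}
    (h : Jn lam lam₁ lam₂) : Pop θ Q M k c F lam =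
      Pop θ Q M k c (fun l => Φ l lam₂) lam₁ + Pop θ Q M k c (fun l => Φ lam₁ l) lam₂ := by
  classical
  rw [Pop_apply, Pop_apply, Pop_apply, ← Finset.sum_add_distrib]
  refine Finset.sum_congr rfl fun o _ => ?_
  split_ifs
  · rw [← mul_add]
    congr 1
    rcases h o with ⟨h1, h2⟩ | ⟨h1, h2⟩
    · rw [lft_pp_zero o _ _ (fun l => Φ lam₁ l) h2, add_zero, lft_apply, lft_apply, h1]
      refine congrFun (congrArg _ (funext fun b => ?_)) _
      exact hF _ _ _ (h.update h2 b)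
    · rw [lft_pp_zero o _ _ (fun l => Φ l lam₂) h2, zero_add, lft_apply, lft_apply, h1]
      refine congrFun (congrArg _ (funext fun b => ?_)) _
      exact hF _ _ _ (h.symm.update h2 b).symm
  · rw [add_zero]

/-- the value at a type as a functional -/
noncomputable def evL (lam : Ty (Orb K Q)) : RS M →ₗ[ℂ] ℂ := LinearMap.proj lam ∘ₗ evR θ Q M

theorem evL_apply (lam : Ty (Orb K Q)) (x : RS M) : evL θ Q M lam x = evR θ Q M x lam := rfl

/-- the value of a tensor at two types -/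
noncomputable def evTT (lam₁ lam₂ : Ty (Orb K Q)) : RS M ⊗[ℂ] RS M →ₗ[ℂ] ℂ :=
  LinearMap.mul' ℂ ℂ ∘ₗ TensorProduct.map (evL θ Q M lam₁) (evL θ Q M lam₂)

theorem evTT_tmul (lam₁ lam₂ : Ty (Orb K Q)) (a b : RS M) :
    evTT θ Q M lam₁ lam₂ (a ⊗ₜ[ℂ] b) = evR θ Q M a lam₁ * evR θ Q M b lam₂ := rfl

variable (hX : ∀ (v : Var M) (x : RS M), evR θ Q M (MvPolynomial.X v * x) = Pop θ Q M v.1 v.2 (evR θ Q M x))

include hX in
theorem evTT_left (v : Var M) (w : RS M ⊗[ℂ] RS M) (lam₁ lam₂ : Ty (Orb K Q)) :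
    evTT θ Q M lam₁ lam₂ ((MvPolynomial.X v ⊗ₜ[ℂ] (1 : RS M)) * w) =
      Pop θ Q M v.1 v.2 (fun l => evTT θ Q M l lam₂ w) lam₁ := by
  induction w with
  | zero =>
    rw [mul_zero, map_zero]
    have h : (fun l => evTT θ Q M l lam₂ (0 : RS M ⊗[ℂ] RS M)) = 0 := by
      funext l
      rw [map_zero]
      rfl
    rw [h, map_zero]
    rfl
  | add w w' hw hw' =>
    rw [mul_add, map_add, hw, hw']
    have h : (fun l => evTT θ Q M l lam₂ (w + w')) =
        (fun l => evTT θ Q M l lam₂ w) + fun l => evTT θ Q M l lam₂ w' := by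
      funext l
      rw [map_add]
      rfl
    rw [h, map_add]
    rfl
  | tmul a b =>
    rw [Algebra.TensorProduct.tmul_mul_tmul, one_mul, evTT_tmul, hX]
    have h : (fun l => evTT θ Q M l lam₂ (a ⊗ₜ[ℂ] b)) = evR θ Q M b lam₂ • evR θ Q M a := by
      funext l
      rw [evTT_tmul, mul_comm]
      rfl
    rw [h, map_smul, Pi.smul_apply, smul_eq_mul, mul_comm]

include hX in
theorem evTT_right (v : Var M) (w : RS M ⊗[ℂ] RS M) (lam₁ lam₂ : Ty (Orb K Q)) :
    evTT θ Q M lam₁ lam₂ (((1 : RS M) ⊗ₜ[ℂ] MvPolynomial.X v) * w) =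
      Pop θ Q M v.1 v.2 (fun l => evTT θ Q M lam₁ l w) lam₂ := by
  induction w with
  | zero =>
    rw [mul_zero, map_zero]
    have h : (fun l => evTT θ Q M lam₁ l (0 : RS M ⊗[ℂ] RS M)) = 0 := by
      funext l
      rw [map_zero]
      rfl
    rw [h, map_zero]
    rfl
  | add w w' hw hw' =>
    rw [mul_add, map_add, hw, hw']
    have h : (fun l => evTT θ Q M lam₁ l (w + w')) =
        (fun l => evTT θ Q M lam₁ l w) + fun l => evTT θ Q M lam₁ l w' := by
      funext l
      rw [map_add]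
      rfl
    rw [h, map_add]
    rfl
  | tmul a b =>
    rw [Algebra.TensorProduct.tmul_mul_tmul, one_mul, evTT_tmul, hX]
    have h : (fun l => evTT θ Q M lam₁ l (a ⊗ₜ[ℂ] b)) = evR θ Q M a lam₁ • evR θ Q M b := by
      funext l
      rw [evTT_tmul]
      rfl
    rw [h, map_smul, Pi.smul_apply, smul_eq_mul]

include hX in
/-- **(R7)** the values at joins of types with disjoint supports -/
theorem evR_join (x : RS M) {lam lam₁ lam₂ : Ty (Orb K Q)} (h : Jn lam lam₁ lam₂) :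
    evR θ Q M x lam = LinearMap.mul' ℂ ℂ (TensorProduct.map (evL θ Q M lam₁) (evL θ Q M lam₂) (coP M x)) := by
  change _ = evTT θ Q M lam₁ lam₂ (coP M x)
  induction x using MvPolynomial.induction_on generalizing lam lam₁ lam₂ with
  | C a =>
    have h1 : (MvPolynomial.C a : RS M) = a • (1 : RS M) := by
      rw [← MvPolynomial.algebraMap_eq, Algebra.algebraMap_eq_smul_one]
    rw [h1, map_smul, map_smul, map_smul, evR_one, map_one, Algebra.TensorProduct.one_def, evTT_tmul, evR_one,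
      Pi.smul_apply, h.vac]
  | add p q hp hq =>
    rw [map_add, map_add, map_add, Pi.add_apply, hp h, hq h]
  | mul_X p v hp =>
    rw [mul_comm, hX, Pop_join θ Q M v.1 v.2 (fun l l₁ l₂ hl => hp hl) h, map_mul]
    have h1 : coP M (MvPolynomial.X v) = (MvPolynomial.X v) ⊗ₜ[ℂ] (1 : RS M) + (1 : RS M) ⊗ₜ[ℂ] (MvPolynomial.X v) :=
      MvPolynomial.aeval_X _ _
    rw [h1, add_mul, map_add, evTT_left θ Q M hX, evTT_right θ Q M hX]

end eval

end Cfsg.Agent.H417.GU
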