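import Cfsg.Agent.S2580

/-!
# S4537, A3: invariant subspaces and duality (helper417)

`card_inv_dual` : an endomorphism of a finite vector space has as many invariant subspaces of dimension `a` as of codimension `a`;
`card_inv_above` : ... the same for the invariant subspaces containing a given one.
-/

set_option autoImplicit false

open Module

namespace Cfsg.Agent.H417.GU

universe u

section

variable {F : Type u} [Field F] {V : Type u} [AddCommGroup V] [Module F V]

/-- a nondegenerate form for which `T` is self-adjoint -/
theorem exists_form [Module.Finite F V] (T : V →ₗ[F] V) :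
    ∃ B : V →ₗ[F] V →ₗ[F] F, Function.Injective B ∧ ∀ x y, B (T x) y = B x (T y) := by
  have htor : Module.IsTorsion (Polynomial F) (Module.AEval' T) := Module.AEval.isTorsion_of_finiteDimensional F V T
  obtain ⟨B, hB1, hB2⟩ := Cfsg.Agent.S2580.exists_form_module (Module.AEval' T) htor
  let o : V ≃ₗ[F] Module.AEval' T := Module.AEval'.of T
  refine ⟨B.compl₁₂ o.toLinearMap o.toLinearMap, ?_, ?_⟩
  · rw [injective_iff_map_eq_zero]
    intro x hx
    have : o x = 0 := by
      apply hB1
      intro y
      have h := LinearMap.congr_fun hx (o.symm y)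
      simpa using h
    exact (LinearEquiv.map_eq_zero_iff o).1 this
  · intro x y
    have h := hB2 (o x) (o y) Polynomial.X
    have h1 : ∀ z, (Polynomial.X : Polynomial F) • o z = o (T z) := fun z => Module.AEval'.X_smul_of T z
    rw [h1, h1] at h
    simpa using h

/-- the orthogonal complement -/
def orth (B : V →ₗ[F] V →ₗ[F] F) (W : Submodule F V) : Submodule F V := W.dualAnnihilator.comap B

theorem mem_orth {B : V →ₗ[F] V →ₗ[F] F} {W : Submodule F V} {x : V} : x ∈ orth B W ↔ ∀ w ∈ W, B x w = 0 := by
  rw [orth, Submodule.mem_comap, Submodule.mem_dualAnnihilator]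

variable [Module.Finite F V] {B : V →ₗ[F] V →ₗ[F] F} (hB : Function.Injective B)
include hB

theorem bij : Function.Bijective B := by
  refine ⟨hB, ?_⟩
  have h : finrank F V = finrank F (Dual F V) := (Subspace.dual_finrank_eq (K := F) (V := V)).symm
  exact (LinearMap.injective_iff_surjective_of_finrank_eq_finrank h).1 hB

theorem finrank_orth (W : Submodule F V) : finrank F W + finrank F (orth B W) = finrank F V := by
  have h1 := Subspace.finrank_add_finrank_dualAnnihilator_eq W
  let e := LinearEquiv.ofBijective B (bij hB)
  have h2 : orth B W = W.dualAnnihilator.comap e.toLinearMap := rfl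
  rw [h2, ← h1]
  congr 1
  exact (LinearEquiv.submoduleMap e (W.dualAnnihilator.comap e.toLinearMap)).finrank_eq.trans (by
    rw [Submodule.map_comap_eq_of_surjective e.surjective])

theorem orth_injective : Function.Injective (orth B) := by
  intro W W' h
  have h1 : W.dualAnnihilator = W'.dualAnnihilator := by
    have := Submodule.comap_injective_of_surjective (bij hB).2 h
    exact this
  exact Subspace.dualAnnihilator_inj.1 h1

end

section

variable {F : Type u} [Field F] [Finite F] {V : Type u} [AddCommGroup V] [Module F V] [Module.Finite F V]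

instance finite_submodule : Finite (Submodule F V) := by
  have : Finite V := Module.finite_of_finite F
  exact Finite.of_injective (fun W : Submodule F V => (W : Set V)) SetLike.coe_injective

theorem card_inv_le (T : V →ₗ[F] V) {a b : ℕ} (hab : a + b = finrank F V) :
    Nat.card {W : Submodule F V // W ≤ W.comap T ∧ finrank F W = a} ≤
      Nat.card {W : Submodule F V // W ≤ W.comap T ∧ finrank F W = b} := by
  obtain ⟨B, hB, hBT⟩ := exists_form T
  refine Nat.card_le_card_of_injective (fun W => ⟨orth B W.1, ?_, ?_⟩) ?_
  · intro x hx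
    rw [Submodule.mem_comap, mem_orth]
    rw [mem_orth] at hx
    intro w hw
    rw [hBT]
    exact hx _ (W.2.1 hw)
  · have h1 := finrank_orth hB W.1
    have h2 := W.2.2
    omega
  · intro W W' h
    exact Subtype.ext (orth_injective hB (congrArg Subtype.val h))

/-- as many invariant subspaces of dimension `a` as of codimension `a` -/
theorem card_inv_dual (T : V →ₗ[F] V) {a b : ℕ} (hab : a + b = finrank F V) :
    Nat.card {W : Submodule F V // W ≤ W.comap T ∧ finrank F W = a} =
      Nat.card {W : Submodule F V // W ≤ W.comap T ∧ finrank F W = b} :=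
  le_antisymm (card_inv_le T hab) (card_inv_le T (by omega))

theorem card_above (T : V →ₗ[F] V) {W : Submodule F V} (hW : W ≤ W.comap T) (a : ℕ) :
    Nat.card {U : Submodule F V // W ≤ U ∧ U ≤ U.comap T ∧ finrank F U = finrank F W + a} =
      Nat.card {U : Submodule F (V ⧸ W) // U ≤ U.comap (W.mapQ W T hW) ∧ finrank F U = a} := by
  have hfr : ∀ U : Submodule F (V ⧸ W), finrank F (U.comap W.mkQ) = finrank F W + finrank F U := by
    intro U
    have hle : W ≤ U.comap W.mkQ := by
      intro x hx
      have : W.mkQ x = 0 := by
        rw [Submodule.mkQ_apply, Submodule.Quotient.mk_eq_zero]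
        exact hx
      rw [Submodule.mem_comap, this]
      exact zero_mem _
    have h1 := LinearMap.finrank_range_add_finrank_ker (W.mkQ.domRestrict (U.comap W.mkQ))
    have h2 : LinearMap.range (W.mkQ.domRestrict (U.comap W.mkQ)) = U := by
      rw [LinearMap.range_domRestrict, Submodule.map_comap_eq_of_surjective W.mkQ_surjective]
    have h3 : LinearMap.ker (W.mkQ.domRestrict (U.comap W.mkQ)) = W.comap (U.comap W.mkQ).subtype := by
      ext x
      rw [LinearMap.mem_ker, LinearMap.domRestrict_apply, Submodule.mkQ_apply, Submodule.Quotient.mk_eq_zero,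
        Submodule.mem_comap, Submodule.subtype_apply]
    rw [h2, h3, (Submodule.comapSubtypeEquivOfLe hle).finrank_eq] at h1
    rw [← h1, add_comm]
  have hinv : ∀ U : Submodule F (V ⧸ W), U ≤ U.comap (W.mapQ W T hW) ↔ U.comap W.mkQ ≤ (U.comap W.mkQ).comap T := by
    intro U
    constructor
    · intro h x hx
      exact h hx
    · intro h x hx
      obtain ⟨y, rfl⟩ := W.mkQ_surjective x
      exact h hx
  have hle : ∀ U : Submodule F (V ⧸ W), W ≤ U.comap W.mkQ := by
    intro U x hx
    have : W.mkQ x = 0 := by
      rw [Submodule.mkQ_apply, Submodule.Quotient.mk_eq_zero]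
      exact hx
    rw [Submodule.mem_comap, this]
    exact zero_mem _
  refine (Nat.card_eq_of_bijective (fun U : {U : Submodule F (V ⧸ W) // U ≤ U.comap (W.mapQ W T hW) ∧ finrank F U = a} =>
    (⟨U.1.comap W.mkQ, hle _, (hinv _).1 U.2.1, by rw [hfr, U.2.2]⟩ :
      {U : Submodule F V // W ≤ U ∧ U ≤ U.comap T ∧ finrank F U = finrank F W + a})) ⟨?_, ?_⟩).symm
  · intro U U' h
    exact Subtype.ext (Submodule.comap_injective_of_surjective W.mkQ_surjective (congrArg Subtype.val h))
  · intro U
    have e : (U.1.map W.mkQ).comap W.mkQ = U.1 := by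
      rw [Submodule.comap_map_mkQ, sup_eq_right.2 U.2.1]
    refine ⟨⟨U.1.map W.mkQ, ?_, ?_⟩, Subtype.ext e⟩
    · rw [hinv, e]
      exact U.2.2.1
    · have h := hfr (U.1.map W.mkQ)
      rw [e, U.2.2.2] at h
      omega

/-- the same for the invariant subspaces containing a given one -/
theorem card_inv_above (T : V →ₗ[F] V) {W : Submodule F V} (hW : W ≤ W.comap T) {a b : ℕ}
    (hab : finrank F W + a + b = finrank F V) :
    Nat.card {U : Submodule F V // W ≤ U ∧ U ≤ U.comap T ∧ finrank F U = finrank F W + a} =
      Nat.card {U : Submodule F V // W ≤ U ∧ U ≤ U.comap T ∧ finrank F U = finrank F W + b} := by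
  rw [card_above T hW, card_above T hW]
  apply card_inv_dual
  have := W.finrank_quotient_add_finrank
  omega

end

end Cfsg.Agent.H417.GU
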