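import Cfsg.Agent.H417.GU.Cop
import Cfsg.Agent.H421.GU.Orb
import Cfsg.Agent.H623.GLn.Sec

/-!
# S4537, (R6): the values at types translated by a `p`-element (helper417)

`z` a `p`-element of `Kˣ` whose orbit under `x ↦ x ^ Q` has `f` elements.
* `Sh p z f lam mu` : the type `lam` (for `Q`) is the type `mu` (for `Q ^ f`, `p`-regular) translated by `z`;
* `evR_shift` : `evR θ Q M x lam = evR θ (Q ^ f) M (PhiF Q M f x) mu` for `x` in `PGen Q M p`;
* `evR_section` : the value at the join of a translated type and a type.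
-/

set_option autoImplicit false
set_option linter.unusedSectionVars false

open scoped ComplexConjugate TensorProduct
open Cfsg Cfsg.Agent.H531.GU Cfsg.Agent.H577.GLB.Std Cfsg.Agent.H421.GU
open Cfsg.Agent.H615.GU hiding lft
open Cfsg.Agent.H577.GLB.Real (coP PhiF PGen)

namespace Cfsg.Agent.H417.GU

section grp

variable {A : Type*} [CommGroup A] {p : ℕ}

theorem split_one {u v : A} {a N : ℕ} (hu : u ^ (p ^ a) = 1) (hv : v ^ N = 1) (hN : N.Coprime p)
    (h : u * v = 1) : u = 1 ∧ v = 1 := by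
  have h1 : v ^ (p ^ a) = 1 := by
    have h2 := congrArg (· ^ (p ^ a)) h
    simp only [mul_pow, hu, one_mul, one_pow] at h2
    exact h2
  have h3 : orderOf v ∣ 1 := by
    have h4 : Nat.Coprime (p ^ a) N := (Nat.Coprime.pow_right a hN).symm
    rw [← h4]
    exact Nat.dvd_gcd (orderOf_dvd_of_pow_eq_one h1) (orderOf_dvd_of_pow_eq_one hv)
  have h5 : v = 1 := orderOf_eq_one_iff.1 (Nat.dvd_one.1 h3)
  refine ⟨?_, h5⟩
  rw [h5, mul_one] at h
  exact h

theorem split_eq {z y y' : A} {a : ℕ} (hz : z ^ (p ^ a) = 1) (hy : (orderOf y).Coprime p)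
    (hy' : (orderOf y').Coprime p) {e : ℤ} (h : z * y' = (z * y) ^ e) : z = z ^ e ∧ y' = y ^ e := by
  have h1 : (z * (z ^ e)⁻¹) ^ (p ^ a) = 1 := by
    rw [mul_pow, hz, inv_pow, ← zpow_natCast (z ^ e), ← zpow_mul, mul_comm e, zpow_mul, zpow_natCast, hz, one_zpow,
      inv_one, mul_one]
  have h2 : (y' * (y ^ e)⁻¹) ^ (orderOf y * orderOf y') = 1 := by
    have h3 : y' ^ (orderOf y * orderOf y') = 1 := by rw [mul_comm, pow_mul, pow_orderOf_eq_one, one_pow]
    have h4 : (y ^ e) ^ (orderOf y * orderOf y') = 1 := by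
      rw [← zpow_natCast, ← zpow_mul, mul_comm e, zpow_mul, zpow_natCast, pow_mul, pow_orderOf_eq_one, one_pow, one_zpow]
    rw [mul_pow, h3, inv_pow, h4, inv_one, mul_one]
  have h3 : z * (z ^ e)⁻¹ * (y' * (y ^ e)⁻¹) = 1 := by
    rw [mul_mul_mul_comm, h, mul_zpow, mul_mul_mul_comm, mul_inv_cancel, mul_inv_cancel, one_mul]
  obtain ⟨h4, h5⟩ := split_one h1 h2 (Nat.Coprime.mul_left hy hy') h3
  exact ⟨mul_inv_eq_one.1 h4, mul_inv_eq_one.1 h5⟩

theorem sum_range_mul' {B : Type*} [AddCommMonoid B] (g : ℕ → B) (f d : ℕ) :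
    ∑ i ∈ Finset.range (f * d), g i = ∑ j ∈ Finset.range f, ∑ i ∈ Finset.range d, g (f * i + j) := by
  induction d with
  | zero => simp
  | succ d ih =>
    rw [mul_add, mul_one, Finset.sum_range_add, ih]
    rw [← Finset.sum_add_distrib]
    refine Finset.sum_congr rfl fun j _ => ?_
    rw [Finset.sum_range_succ]

end grp

section main

variable {K : Type*} [Field K] [Finite K] {Q : ℤ} {M : ℕ} [NeZero M] {p a f : ℕ} {z : Kˣ}

/-- the translation of orbits -/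
def mz (K : Type*) [Field K] (Q : ℤ) (f : ℕ) (z : Kˣ) (hz : z ^ (Q ^ f) = z) : Orb K (Q ^ f) → Orb K Q :=
  Quotient.map (fun y => z * y) (by
    have h0 : ∀ i : ℕ, z ^ (Q ^ (f * i)) = z := by
      intro i
      induction i with
      | zero => rw [mul_zero, pow_zero, zpow_one]
      | succ i ih => rw [mul_add, mul_one, pow_add, zpow_mul, ih, hz]
    rintro y y' ⟨i, j, h⟩
    refine ⟨f * i, f * j, ?_⟩
    rw [mul_zpow, mul_zpow, h0, h0, pow_mul, pow_mul, h])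

theorem unit_pow (hQ : IsUnit (Q : ZMod M)) (f : ℕ) : IsUnit ((Q ^ f : ℤ) : ZMod M) := by
  push_cast
  exact hQ.pow f

theorem zQ (hf : ∀ j : ℕ, z ^ (Q ^ j) = z ↔ f ∣ j) : z ^ (Q ^ f) = z := (hf f).2 dvd_rfl

theorem dOrb_shift (hM : Nat.card Kˣ = M) (hQ : IsUnit (Q : ZMod M)) (hz : z ^ (p ^ a) = 1)
    (hf : ∀ j : ℕ, z ^ (Q ^ j) = z ↔ f ∣ j) {y : Kˣ} (hy : (orderOf y).Coprime p) :
    dOrb K Q (Quotient.mk (orbSetoid K Q) (z * y)) = f * dOrb K (Q ^ f) (Quotient.mk (orbSetoid K (Q ^ f)) y) := by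
  refine Nat.dvd_antisymm ?_ ?_
  · rw [dOrb_dvd_iff hM hQ, mul_zpow, (hf _).2 (dvd_mul_right _ _), pow_mul, pow_dOrb hM (unit_pow hQ f)]
  · have h1 := pow_dOrb hM hQ (z * y)
    obtain ⟨h2, h3⟩ := split_eq hz hy hy h1.symm
    obtain ⟨k, hk⟩ := (hf _).1 h2.symm
    rw [hk]
    refine Nat.mul_dvd_mul_left f ?_
    rw [dOrb_dvd_iff hM (unit_pow hQ f), ← pow_mul, ← hk]
    exact h3.symm

/-- translation is injective on `p`-regular orbits -/
theorem mk_shift_inj (hM : Nat.card Kˣ = M) (hQ : IsUnit (Q : ZMod M)) (hz : z ^ (p ^ a) = 1)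
    (hf : ∀ j : ℕ, z ^ (Q ^ j) = z ↔ f ∣ j) {y y' : Kˣ} (hy : (orderOf y).Coprime p) (hy' : (orderOf y').Coprime p)
    (h : Quotient.mk (orbSetoid K Q) (z * y') = Quotient.mk (orbSetoid K Q) (z * y)) :
    Quotient.mk (orbSetoid K (Q ^ f)) y' = Quotient.mk (orbSetoid K (Q ^ f)) y := by
  obtain ⟨i, hi⟩ := (mk_eq_iff hM hQ).1 h
  obtain ⟨h1, h2⟩ := split_eq hz hy hy' hi
  obtain ⟨k, rfl⟩ := (hf _).1 h1.symm
  rw [pow_mul] at h2
  exact (mk_eq_iff hM (unit_pow hQ f)).2 ⟨k, h2⟩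

theorem expoZ_shift {k : ℕ} (hk : f ∣ k) (c : ZMod M) : expoZ (Q ^ f) M (k / f) c = expoZ Q M k c := by
  rw [expoZ, expoZ, ← pow_mul, Nat.mul_div_cancel' hk]

theorem torZ_shift {k : ℕ} (hk : f ∣ k) {c : ZMod M} (hc : TorZ Q M k c) (j : ℕ) :
    TorZ (Q ^ f) M (k / f) ((Q : ZMod M) ^ j * c) := by
  have h1 := H614.GLn.RSt.torZ_mul k hc j
  rw [TorZ] at h1 ⊢
  push_cast
  rw [← pow_mul, Nat.mul_div_cancel' hk]
  exact h1

/-- the `p`-part does not matter for labels of order prime to `p` -/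
theorem pow_expoZ_pPart (hz : z ^ (p ^ a) = 1) {k : ℕ} (hzk : z ^ (Q ^ k) = z) {c : ZMod M} (hPR : PReg M p c)
    (hc : TorZ Q M k c) : z ^ expoZ Q M k c = 1 := by
  have hM0 : (M : ℤ) ≠ 0 := by exact_mod_cast NeZero.ne M
  have h1 := expoZ_mul hc
  -- `m c = 0`, `m` prime to `p`
  have h2 : (M : ℤ) ∣ (addOrderOf c : ℤ) * c.val := by
    rw [← ZMod.intCast_zmod_eq_zero_iff_dvd]
    push_cast
    rw [ZMod.natCast_zmod_val, ← nsmul_eq_mul, addOrderOf_nsmul_eq_zero]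
  obtain ⟨t, ht⟩ := h2
  have h3 : expoZ Q M k c * addOrderOf c = t * (Q ^ k - 1) := by
    refine mul_right_cancel₀ hM0 ?_
    linear_combination (addOrderOf c : ℤ) * h1 + (Q ^ k - 1) * ht
  have h4 : z ^ (Q ^ k - 1) = 1 := by rw [zpow_sub, hzk, zpow_one, mul_inv_cancel]
  have h5 : (z ^ expoZ Q M k c) ^ (addOrderOf c) = 1 := by
    rw [← zpow_natCast, ← zpow_mul, h3, mul_comm, zpow_mul, h4, one_zpow]
  have h6 : (z ^ expoZ Q M k c) ^ (p ^ a) = 1 := by
    rw [← zpow_natCast, ← zpow_mul, mul_comm, zpow_mul, zpow_natCast, hz, one_zpow]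
  have h7 : orderOf (z ^ expoZ Q M k c) ∣ 1 := by
    have h8 : Nat.Coprime (p ^ a) (addOrderOf c) := (Nat.Coprime.pow_right a hPR).symm
    rw [← h8]
    exact Nat.dvd_gcd (orderOf_dvd_of_pow_eq_one h6) (orderOf_dvd_of_pow_eq_one h5)
  exact orderOf_eq_one_iff.1 (Nat.dvd_one.1 h7)

variable (θ : K →*₀ ℂ)

theorem thO_shift (hM : Nat.card Kˣ = M) (hQ : IsUnit (Q : ZMod M)) (hz : z ^ (p ^ a) = 1)
    (hf : ∀ j : ℕ, z ^ (Q ^ j) = z ↔ f ∣ j) {y : Kˣ} (hy : (orderOf y).Coprime p) {k : ℕ} {c : ZMod M}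
    (hPR : PReg M p c) (hc : TorZ Q M k c) (hd : dOrb K Q (Quotient.mk (orbSetoid K Q) (z * y)) ∣ k) :
    thO θ Q M k c (Quotient.mk (orbSetoid K Q) (z * y)) = ∑ j ∈ Finset.range f,
      thO θ (Q ^ f) M (k / f) ((Q : ZMod M) ^ j * c) (Quotient.mk (orbSetoid K (Q ^ f)) y) := by
  have hfk : f ∣ k := by
    refine dvd_trans ?_ hd
    rw [dOrb_shift hM hQ hz hf hy]
    exact dvd_mul_right _ _
  have hzk : z ^ (Q ^ k) = z := (hf k).2 hfk
  have hyk : y ^ (Q ^ k) = y := by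
    have h1 := (dOrb_dvd_iff hM hQ (z * y) k).1 hd
    exact (split_eq hz hy hy h1.symm).2.symm
  have hyi : ∀ i : ℕ, (y ^ (Q ^ i)) ^ (Q ^ k) = y ^ (Q ^ i) := by
    intro i
    rw [← zpow_mul, mul_comm, zpow_mul, hyk]
  rw [thO_mk hM hQ, dOrb_shift hM hQ hz hf hy, sum_range_mul']
  refine Finset.sum_congr rfl fun j _ => ?_
  rw [thO_mk hM (unit_pow hQ f)]
  refine Finset.sum_congr rfl fun i _ => ?_
  congr 2
  rw [expoZ_shift hfk, ← pow_mul, pow_expoZ_mul (hyi _) hc]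
  have h1 : ((z * y) ^ (Q ^ (f * i + j))) ^ expoZ Q M k c =
      (z ^ expoZ Q M k c) ^ (Q ^ (f * i + j)) * (y ^ (Q ^ (f * i + j))) ^ expoZ Q M k c := by
    rw [mul_zpow, mul_zpow, ← zpow_mul, mul_comm (Q ^ (f * i + j)), zpow_mul]
  rw [h1, pow_expoZ_pPart hz hzk hPR hc, one_zpow, one_mul, ← zpow_mul (y) (Q ^ (f * i)), ← pow_add]

/-- `lam` is the translate by `z` of the `p`-regular type `mu` -/
structure Sh (p : ℕ) (z : Kˣ) (f : ℕ) (lam : Ty (Orb K Q)) (mu : Ty (Orb K (Q ^ f))) : Prop where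
  pr : ∀ y : Kˣ, mu (Quotient.mk (orbSetoid K (Q ^ f)) y) ≠ 0 → (orderOf y).Coprime p
  eq : ∀ y : Kˣ, (orderOf y).Coprime p →
    lam (Quotient.mk (orbSetoid K Q) (z * y)) = mu (Quotient.mk (orbSetoid K (Q ^ f)) y)
  zero : ∀ x : Kˣ, lam (Quotient.mk (orbSetoid K Q) x) ≠ 0 → ∃ y : Kˣ, (orderOf y).Coprime p ∧
    Quotient.mk (orbSetoid K Q) x = Quotient.mk (orbSetoid K Q) (z * y)

theorem pr_of_mk {y y' : Kˣ} (hM : Nat.card Kˣ = M) (hQ : IsUnit (Q : ZMod M))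
    (h : Quotient.mk (orbSetoid K Q) y' = Quotient.mk (orbSetoid K Q) y) (hy : (orderOf y).Coprime p) :
    (orderOf y').Coprime p := by
  obtain ⟨i, rfl⟩ := (mk_eq_iff hM hQ).1 h
  exact Nat.Coprime.coprime_dvd_left (orderOf_dvd_of_mem_zpowers ⟨_, rfl⟩) hy

open Classical in
theorem Sh.update (hM : Nat.card Kˣ = M) (hQ : IsUnit (Q : ZMod M)) (hz : z ^ (p ^ a) = 1)
    (hf : ∀ j : ℕ, z ^ (Q ^ j) = z ↔ f ∣ j) {lam : Ty (Orb K Q)} {mu : Ty (Orb K (Q ^ f))} (h : Sh p z f lam mu)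
    {y : Kˣ} (hy : (orderOf y).Coprime p) (c : Col) :
    Sh p z f (lam.update (Quotient.mk (orbSetoid K Q) (z * y)) c)
      (mu.update (Quotient.mk (orbSetoid K (Q ^ f)) y) c) := by
  constructor
  · intro y' hy'
    by_cases h1 : Quotient.mk (orbSetoid K (Q ^ f)) y' = Quotient.mk (orbSetoid K (Q ^ f)) y
    · exact pr_of_mk hM (unit_pow hQ f) h1 hy
    · rw [Finsupp.coe_update, Function.update_of_ne h1] at hy'
      exact h.pr y' hy'
  · intro y' hy'
    by_cases h1 : Quotient.mk (orbSetoid K (Q ^ f)) y' = Quotient.mk (orbSetoid K (Q ^ f)) y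
    · have h2 : Quotient.mk (orbSetoid K Q) (z * y') = Quotient.mk (orbSetoid K Q) (z * y) :=
        congrArg (mz K Q f z (zQ hf)) h1
      rw [Finsupp.coe_update, Finsupp.coe_update, h1, h2, Function.update_self, Function.update_self]
    · have h2 : Quotient.mk (orbSetoid K Q) (z * y') ≠ Quotient.mk (orbSetoid K Q) (z * y) :=
        fun h2 => h1 (mk_shift_inj hM hQ hz hf hy hy' h2)
      rw [Finsupp.coe_update, Finsupp.coe_update, Function.update_of_ne h1, Function.update_of_ne h2]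
      exact h.eq y' hy'
  · intro x hx
    by_cases h1 : Quotient.mk (orbSetoid K Q) x = Quotient.mk (orbSetoid K Q) (z * y)
    · exact ⟨y, hy, h1⟩
    · rw [Finsupp.coe_update, Function.update_of_ne h1] at hx
      exact h.zero x hx

theorem Sh.vac {lam : Ty (Orb K Q)} {mu : Ty (Orb K (Q ^ f))} (h : Sh p z f lam mu) :
    (Cfsg.Agent.H615.GU.vac lam : ℂ) = Cfsg.Agent.H615.GU.vac mu := by
  classical
  have h1 : lam = 0 ↔ mu = 0 := by
    constructor
    · rintro rfl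
      ext1 o
      induction o using Quotient.inductionOn with
      | _ y =>
        by_contra hne
        have h2 := h.eq y (h.pr y hne)
        exact hne h2.symm
    · rintro rfl
      ext1 o
      induction o using Quotient.inductionOn with
      | _ x =>
        by_contra hne
        obtain ⟨y, hy, hxy⟩ := h.zero x hne
        apply hne
        change lam (Quotient.mk (orbSetoid K Q) x) = 0
        rw [hxy, h.eq y hy]
        rfl
  unfold Cfsg.Agent.H615.GU.vac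
  by_cases h2 : lam = 0
  · rw [if_pos h2, if_pos (h1.1 h2)]
  · rw [if_neg h2, if_neg (fun h3 => h2 (h1.2 h3))]

/-- functions of types related by the translation -/
def Rel (p : ℕ) (z : Kˣ) (f : ℕ) (F : Ty (Orb K Q) → ℂ) (G : Ty (Orb K (Q ^ f)) → ℂ) : Prop :=
  ∀ lam mu, Sh p z f lam mu → F lam = G mu

open Classical in
theorem sum_orbits (hM : Nat.card Kˣ = M) (hQ : IsUnit (Q : ZMod M)) (hz : z ^ (p ^ a) = 1)
    (hf : ∀ j : ℕ, z ^ (Q ^ j) = z ↔ f ∣ j) {g : Orb K Q → ℂ} {g' : Orb K (Q ^ f) → ℂ}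
    (hmain : ∀ y : Kˣ, (orderOf y).Coprime p →
      g (Quotient.mk (orbSetoid K Q) (z * y)) = g' (Quotient.mk (orbSetoid K (Q ^ f)) y))
    (hg : ∀ o, (∀ y : Kˣ, (orderOf y).Coprime p → o ≠ Quotient.mk (orbSetoid K Q) (z * y)) → g o = 0)
    (hg' : ∀ o, (∀ y : Kˣ, (orderOf y).Coprime p → o ≠ Quotient.mk (orbSetoid K (Q ^ f)) y) → g' o = 0) :
    ∑ o, g o = ∑ o, g' o := by
  let t : Finset (Orb K (Q ^ f)) := Finset.univ.filter fun o =>
    ∃ y : Kˣ, (orderOf y).Coprime p ∧ o = Quotient.mk (orbSetoid K (Q ^ f)) y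
  have h1 : ∑ o, g' o = ∑ o ∈ t, g' o := by
    symm
    refine Finset.sum_subset (Finset.subset_univ _) fun o _ ho => hg' o fun y hy hyo => ho ?_
    exact Finset.mem_filter.2 ⟨Finset.mem_univ _, y, hy, hyo⟩
  rw [h1]
  symm
  refine Finset.sum_of_injOn (mz K Q f z (zQ hf)) ?_ ?_ ?_ ?_
  · rintro o ho o' ho' h
    obtain ⟨y, hy, rfl⟩ := (Finset.mem_filter.1 (Finset.mem_coe.1 ho)).2
    obtain ⟨y', hy', rfl⟩ := (Finset.mem_filter.1 (Finset.mem_coe.1 ho')).2
    exact mk_shift_inj hM hQ hz hf hy' hy h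
  · intro o _
    exact Finset.mem_coe.2 (Finset.mem_univ _)
  · intro o _ ho
    refine hg o fun y hy hyo => ho ?_
    exact ⟨Quotient.mk _ y, Finset.mem_coe.2 (Finset.mem_filter.2 ⟨Finset.mem_univ _, y, hy, rfl⟩), hyo.symm⟩
  · intro o ho
    obtain ⟨y, hy, rfl⟩ := (Finset.mem_filter.1 ho).2
    exact (hmain y hy).symm

theorem Pop_shift (hM : Nat.card Kˣ = M) (hQ : IsUnit (Q : ZMod M)) (hz : z ^ (p ^ a) = 1)
    (hf : ∀ j : ℕ, z ^ (Q ^ j) = z ↔ f ∣ j) (hf0 : 0 < f) {k : ℕ} (hk : 0 < k) {c : ZMod M} (hPR : PReg M p c)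
    (hc : TorZ Q M k c) {F : Ty (Orb K Q) → ℂ} {G : Ty (Orb K (Q ^ f)) → ℂ} (h : Rel p z f F G) :
    Rel p z f (Pop θ Q M k c F) (if f ∣ k then ∑ j ∈ Finset.range f,
      Pop θ (Q ^ f) M (k / f) ((Q : ZMod M) ^ j * c) G else 0) := by
  classical
  intro lam mu hs
  have hR : (if f ∣ k then ∑ j ∈ Finset.range f, Pop θ (Q ^ f) M (k / f) ((Q : ZMod M) ^ j * c) G else 0) mu =
      ∑ o : Orb K (Q ^ f), if f ∣ k then ∑ j ∈ Finset.range f, (if 0 < k / f ∧ dOrb K (Q ^ f) o ∣ k / f then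
        thO θ (Q ^ f) M (k / f) ((Q : ZMod M) ^ j * c) o *
          H531.GU.lft o (pp (((Q ^ f : ℤ) : ℂ) ^ dOrb K (Q ^ f) o) (k / f / dOrb K (Q ^ f) o)) G mu else 0) else 0 := by
    split_ifs with h1
    · rw [Finset.sum_comm, Finset.sum_apply]
      exact Finset.sum_congr rfl fun j _ => Pop_apply θ (Q ^ f) M _ _ G mu
    · rw [Finset.sum_const_zero]
      rfl
  rw [hR, Pop_apply]
  refine sum_orbits hM hQ hz hf ?_ ?_ ?_
  · intro y hy
    have hD := dOrb_shift hM hQ hz hf hy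
    by_cases hfk : f ∣ k
    · rw [if_pos hfk]
      have hkf : 0 < k / f := Nat.div_pos (Nat.le_of_dvd hk hfk) hf0
      have hiff : dOrb K Q (Quotient.mk (orbSetoid K Q) (z * y)) ∣ k ↔
          dOrb K (Q ^ f) (Quotient.mk (orbSetoid K (Q ^ f)) y) ∣ k / f := by
        rw [hD]
        exact (Nat.dvd_div_iff_mul_dvd hfk).symm
      by_cases hd : dOrb K Q (Quotient.mk (orbSetoid K Q) (z * y)) ∣ k
      · rw [if_pos ⟨hk, hd⟩, thO_shift θ hM hQ hz hf hy hPR hc hd, Finset.sum_mul]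
        refine Finset.sum_congr rfl fun j _ => ?_
        rw [if_pos ⟨hkf, hiff.1 hd⟩]
        congr 1
        have e1 : ((Q : ℂ)) ^ dOrb K Q (Quotient.mk (orbSetoid K Q) (z * y)) =
            (((Q ^ f : ℤ) : ℂ)) ^ dOrb K (Q ^ f) (Quotient.mk (orbSetoid K (Q ^ f)) y) := by
          rw [hD, pow_mul]
          push_cast
          rfl
        have e2 : k / dOrb K Q (Quotient.mk (orbSetoid K Q) (z * y)) =
            k / f / dOrb K (Q ^ f) (Quotient.mk (orbSetoid K (Q ^ f)) y) := by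
          rw [hD, Nat.div_div_eq_div_mul]
        rw [lft_apply, lft_apply, e1, e2, hs.eq y hy]
        refine congrFun (congrArg _ (funext fun b => ?_)) _
        exact h _ _ (hs.update hM hQ hz hf hy b)
      · rw [if_neg (fun h0 => hd h0.2)]
        symm
        refine Finset.sum_eq_zero fun j _ => ?_
        rw [if_neg (fun h0 => hd (hiff.2 h0.2))]
    · rw [if_neg hfk, if_neg]
      rintro ⟨-, h0⟩
      apply hfk
      refine dvd_trans ?_ h0
      rw [hD]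
      exact dvd_mul_right _ _
  · intro o ho
    have h1 : lam o = 0 := by
      by_contra hne
      induction o using Quotient.inductionOn with
      | _ x =>
        obtain ⟨y, hy, hxy⟩ := hs.zero x hne
        exact ho y hy hxy
    rw [lft_pp_zero _ _ _ _ h1, mul_zero, ite_self]
  · intro o ho
    have h1 : mu o = 0 := by
      by_contra hne
      induction o using Quotient.inductionOn with
      | _ y => exact ho y (hs.pr y hne) rfl
    by_cases hfk : f ∣ k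
    · rw [if_pos hfk]
      refine Finset.sum_eq_zero fun j _ => ?_
      rw [lft_pp_zero _ _ _ _ h1, mul_zero, ite_self]
    · rw [if_neg hfk]

theorem pReg_canon {Q : ℤ} {c : ZMod M} (h : PReg M p c) : PReg M p (canon Q M c) := by
  obtain ⟨j, hj⟩ := H614.GLn.RSt.sameZ_canon (Q := Q) c
  rw [hj]
  refine Nat.Coprime.coprime_dvd_left ?_ h
  rw [addOrderOf_dvd_iff_nsmul_eq_zero, nsmul_eq_mul, mul_left_comm, ← nsmul_eq_mul, addOrderOf_nsmul_eq_zero, mul_zero]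

theorem torZ_canon {Q : ℤ} {k : ℕ} {c : ZMod M} (h : TorZ Q M k c) : TorZ Q M k (canon Q M c) := by
  obtain ⟨j, hj⟩ := H614.GLn.RSt.sameZ_canon (Q := Q) c
  rw [hj]
  exact H614.GLn.RSt.torZ_mul k h j

/-- the algebra map, in terms of the operators -/
theorem rel_rho (hM : Nat.card Kˣ = M) (hQ : IsUnit (Q : ZMod M)) (hz : z ^ (p ^ a) = 1)
    (hf : ∀ j : ℕ, z ^ (Q ^ j) = z ↔ f ∣ j) (hf0 : 0 < f) {rho : RS M →ₐ[ℂ] Module.End ℂ (Ty (Orb K Q) → ℂ)}
    {rho' : RS M →ₐ[ℂ] Module.End ℂ (Ty (Orb K (Q ^ f)) → ℂ)}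
    (h₁ : ∀ v : Var M, rho (MvPolynomial.X v) = Pop θ Q M v.1 v.2)
    (h₂ : ∀ v : Var M, rho' (MvPolynomial.X v) = Pop θ (Q ^ f) M v.1 v.2) {x : RS M} (hx : x ∈ PGen Q M p) :
    ∀ {F : Ty (Orb K Q) → ℂ} {G : Ty (Orb K (Q ^ f)) → ℂ}, Rel p z f F G →
      Rel p z f (rho x F) (rho' (PhiF Q M f x) G) := by
  classical
  induction hx using Algebra.adjoin_induction with
  | mem x hx =>
    intro F G h
    obtain ⟨k, c, hPR, rfl⟩ := hx
    by_cases hkc : 0 < k ∧ TorZ Q M k c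
    · have e1 : rv Q M k c = MvPolynomial.X (k, canon Q M c) := if_pos hkc
      have e2 : PhiF Q M f (MvPolynomial.X (k, canon Q M c)) = if f ∣ k then
          ∑ j ∈ Finset.range f, rv (Q ^ f) M (k / f) ((Q : ZMod M) ^ j * canon Q M c) else 0 := by
        rw [PhiF, MvPolynomial.aeval_X]
      have e3 := Pop_shift θ hM hQ hz hf hf0 hkc.1 (pReg_canon (Q := Q) hPR) (torZ_canon hkc.2) h
      rw [e1, e2, h₁]
      by_cases hfk : f ∣ k
      · rw [if_pos hfk] at e3 ⊢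
        rw [map_sum, LinearMap.sum_apply]
        have e4 : ∀ j ∈ Finset.range f, rho' (rv (Q ^ f) M (k / f) ((Q : ZMod M) ^ j * canon Q M c)) G =
            Pop θ (Q ^ f) M (k / f) ((Q : ZMod M) ^ j * canon Q M c) G := by
          intro j _
          have hkf : 0 < k / f := Nat.div_pos (Nat.le_of_dvd hkc.1 hfk) hf0
          have ht := torZ_shift hfk (torZ_canon hkc.2) j
          have e5 : rv (Q ^ f) M (k / f) ((Q : ZMod M) ^ j * canon Q M c) =
              MvPolynomial.X (k / f, canon (Q ^ f) M ((Q : ZMod M) ^ j * canon Q M c)) := if_pos ⟨hkf, ht⟩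
          rw [e5, h₂, Pop_canon hM (unit_pow hQ f) ht]
        rw [Finset.sum_congr rfl e4]
        exact e3
      · rw [if_neg hfk] at e3 ⊢
        rw [map_zero]
        exact e3
    · have e1 : rv Q M k c = 0 := if_neg hkc
      rw [e1, map_zero, map_zero, map_zero]
      intro _ _ _
      rfl
  | algebraMap r =>
    intro F G h
    rw [AlgHom.commutes, AlgHom.commutes, AlgHom.commutes]
    intro lam mu hs
    show r • F lam = r • G mu
    rw [h _ _ hs]
  | add x y _ _ hx hy =>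
    intro F G h lam mu hs
    rw [map_add, map_add, map_add, LinearMap.add_apply, LinearMap.add_apply, Pi.add_apply, Pi.add_apply,
      hx h _ _ hs, hy h _ _ hs]
  | mul x y _ _ hx hy =>
    intro F G h lam mu hs
    rw [map_mul, map_mul, map_mul, Module.End.mul_apply, Module.End.mul_apply]
    exact hx (hy h) _ _ hs

/-- **(R6)** the values at translated types -/
theorem evR_shift (h2 : I2S) (hM : Nat.card Kˣ = M) (hQ : IsUnit (Q : ZMod M)) (hz : z ^ (p ^ a) = 1)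
    (hf : ∀ j : ℕ, z ^ (Q ^ j) = z ↔ f ∣ j) (hf0 : 0 < f) {x : RS M} (hx : x ∈ PGen Q M p)
    {lam : Ty (Orb K Q)} {mu : Ty (Orb K (Q ^ f))} (h : Sh p z f lam mu) :
    evR θ Q M x lam = evR θ (Q ^ f) M (PhiF Q M f x) mu := by
  obtain ⟨rho, h₁, e₁⟩ := exists_rho θ Q M h2
  obtain ⟨rho', h₂, e₂⟩ := exists_rho θ (Q ^ f) M h2
  rw [e₁, e₂]
  exact rel_rho θ hM hQ hz hf hf0 h₁ h₂ hx (fun l m hs => hs.vac) lam mu h

/-- **(R6), (R7)** the values at the join of a translated type and a type -/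
theorem evR_section (h2 : I2S) (hM : Nat.card Kˣ = M) (hQ : IsUnit (Q : ZMod M)) (hz : z ^ (p ^ a) = 1)
    (hf : ∀ j : ℕ, z ^ (Q ^ j) = z ↔ f ∣ j) (hf0 : 0 < f) {x : RS M} (hx : x ∈ PGen Q M p)
    {lam lam₁ lam₂ : Ty (Orb K Q)} {mu : Ty (Orb K (Q ^ f))} (hj : Jn lam lam₁ lam₂) (h : Sh p z f lam₁ mu) :
    evR θ Q M x lam = LinearMap.mul' ℂ ℂ (TensorProduct.map
      (evL θ (Q ^ f) M mu ∘ₗ (PhiF Q M f).toLinearMap) (evL θ Q M lam₂) (coP M x)) := by
  rw [evR_join θ Q M (evR_X_mul θ Q M h2) x hj]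
  exact Cfsg.Agent.H623.GLn.map_coP_congr hx (fun b hb => evR_shift θ h2 hM hQ hz hf hf0 hb h) (fun _ _ => rfl)

/-- the situation of a section: `lam` is the type of `u (A, B)`, `mu₁`, `mu₂` the types of the `p`-regular elements
`A`, `B` -/
structure Sec (p : ℕ) (z : Kˣ) (f : ℕ) (lam : Ty (Orb K Q)) (mu₁ : Ty (Orb K (Q ^ f))) (mu₂ : Ty (Orb K Q)) :
    Prop where
  pr₁ : ∀ y : Kˣ, mu₁ (Quotient.mk (orbSetoid K (Q ^ f)) y) ≠ 0 → (orderOf y).Coprime p
  pr₂ : ∀ y : Kˣ, mu₂ (Quotient.mk (orbSetoid K Q) y) ≠ 0 → (orderOf y).Coprime p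
  eq₁ : ∀ y : Kˣ, (orderOf y).Coprime p →
    lam (Quotient.mk (orbSetoid K Q) (z * y)) = mu₁ (Quotient.mk (orbSetoid K (Q ^ f)) y)
  eq₂ : ∀ y : Kˣ, (orderOf y).Coprime p →
    lam (Quotient.mk (orbSetoid K Q) y) = mu₂ (Quotient.mk (orbSetoid K Q) y)
  zero : ∀ x : Kˣ, lam (Quotient.mk (orbSetoid K Q) x) ≠ 0 → ∃ y : Kˣ, (orderOf y).Coprime p ∧
    (Quotient.mk (orbSetoid K Q) x = Quotient.mk (orbSetoid K Q) (z * y) ∨
      Quotient.mk (orbSetoid K Q) x = Quotient.mk (orbSetoid K Q) y)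

/-- an element `z y` with `y` `p`-regular, `z ≠ 1` a `p`-element, is not `p`-regular -/
theorem not_pr {y : Kˣ} (hz : z ^ (p ^ a) = 1) (hz1 : z ≠ 1) (hy : (orderOf y).Coprime p)
    (h : (orderOf (z * y)).Coprime p) : False := by
  have h1 : z⁻¹ * (z * y) = y := by rw [inv_mul_cancel_left]
  have h2 : (z * y)⁻¹ ^ (orderOf (z * y)) = 1 := by rw [inv_pow, pow_orderOf_eq_one, inv_one]
  have h3 : y ^ (orderOf y * orderOf (z * y)) = 1 := by rw [pow_mul, pow_orderOf_eq_one, one_pow]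
  have h4 : (y * (z * y)⁻¹) ^ (orderOf y * orderOf (z * y)) = 1 := by
    rw [mul_pow, h3, one_mul, mul_comm (orderOf y), pow_mul, h2, one_pow]
  have h5 : z * (y * (z * y)⁻¹) = 1 := by rw [← mul_assoc, mul_inv_cancel]
  exact hz1 (split_one hz h4 (Nat.Coprime.mul_left hy h) h5).1

/-- **(R6), (R7)** in terms of the three types -/
theorem evR_sec (h2 : I2S) (hM : Nat.card Kˣ = M) (hQ : IsUnit (Q : ZMod M)) (hz : z ^ (p ^ a) = 1)
    (hz1 : z ≠ 1) (hf : ∀ j : ℕ, z ^ (Q ^ j) = z ↔ f ∣ j) (hf0 : 0 < f) {x : RS M} (hx : x ∈ PGen Q M p)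
    {lam : Ty (Orb K Q)} {mu₁ : Ty (Orb K (Q ^ f))} {mu₂ : Ty (Orb K Q)} (h : Sec p z f lam mu₁ mu₂) :
    evR θ Q M x lam = LinearMap.mul' ℂ ℂ (TensorProduct.map
      (evL θ (Q ^ f) M mu₁ ∘ₗ (PhiF Q M f).toLinearMap) (evL θ Q M mu₂) (coP M x)) := by
  classical
  let P : Orb K Q → Prop := fun o => ∃ y : Kˣ, (orderOf y).Coprime p ∧ o = Quotient.mk (orbSetoid K Q) (z * y)
  let lam₁ : Ty (Orb K Q) := lam.filter P
  have hn : ∀ y : Kˣ, (orderOf y).Coprime p → ¬ (orderOf (z * y)).Coprime p := fun y hy h0 => not_pr hz hz1 hy h0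
  have hmu : ∀ y : Kˣ, (orderOf y).Coprime p → mu₂ (Quotient.mk (orbSetoid K Q) (z * y)) = 0 := by
    intro y hy
    by_contra hne
    exact hn y hy (h.pr₂ _ hne)
  have hj : Jn lam lam₁ mu₂ := by
    intro o
    by_cases ho : P o
    · left
      obtain ⟨y, hy, rfl⟩ := id ho
      exact ⟨(Finsupp.filter_apply_pos P lam ho).symm, hmu y hy⟩
    · right
      refine ⟨?_, Finsupp.filter_apply_neg P lam ho⟩
      induction o using Quotient.inductionOn with
      | _ x =>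
        by_cases hx : (orderOf x).Coprime p
        · exact h.eq₂ x hx
        · have h3 : mu₂ (Quotient.mk (orbSetoid K Q) x) = 0 := by
            by_contra hne
            exact hx (h.pr₂ _ hne)
          have h4 : lam (Quotient.mk (orbSetoid K Q) x) = 0 := by
            by_contra hne
            obtain ⟨y, hy, h5 | h5⟩ := h.zero x hne
            · exact ho ⟨y, hy, h5⟩
            · exact hx (pr_of_mk hM hQ h5 hy)
          exact h4.trans h3.symm
  have hs : Sh p z f lam₁ mu₁ := by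
    refine ⟨h.pr₁, fun y hy => ?_, fun x hx => ?_⟩
    · rw [← h.eq₁ y hy]
      exact Finsupp.filter_apply_pos P lam ⟨y, hy, rfl⟩
    · have h3 : P (Quotient.mk (orbSetoid K Q) x) := by
        by_contra h4
        exact hx (Finsupp.filter_apply_neg P lam h4)
      exact h3
  exact evR_section θ h2 hM hQ hz hf hf0 hx hj hs

end main

end Cfsg.Agent.H417.GU
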